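import Groth.Agent.CAlg15.RegularBC
import Mathlib.RingTheory.MvPowerSeries.Basic
import Mathlib.RingTheory.AdicCompletion.Algebra
import Mathlib.RingTheory.AdicCompletion.Completeness

/-!
# Local algebra of a nodal deformation
-/

set_option autoImplicit false
set_option linter.style.haveILetI false
set_option linter.unusedSectionVars false
set_option maxHeartbeats 800000

universe u

open IsLocalRing

namespace Groth.Agent.NodeSm24

abbrev Node (Λ : Type u) [CommRing Λ] (v : Λ) : Type u :=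
  MvPowerSeries (Fin 2) Λ ⧸ Ideal.span {(MvPowerSeries.X 0 * MvPowerSeries.X 1 - MvPowerSeries.C v : MvPowerSeries (Fin 2) Λ)}

theorem exists_split {Λ : Type u} [CommRing Λ] (F : MvPowerSeries (Fin 2) Λ) :
    ∃ F₀ F₁, F = MvPowerSeries.C (MvPowerSeries.coeff 0 F) + MvPowerSeries.X 0 * F₀ + MvPowerSeries.X 1 * F₁ := by
  classical
  let G : MvPowerSeries (Fin 2) Λ := F - MvPowerSeries.C (MvPowerSeries.coeff 0 F)
  let G₁ : MvPowerSeries (Fin 2) Λ := fun m => if m 0 = 0 then MvPowerSeries.coeff m G else 0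
  have hG₁ : ∀ m, MvPowerSeries.coeff m G₁ = if m 0 = 0 then MvPowerSeries.coeff m G else 0 := fun m => rfl
  have h0 : (MvPowerSeries.X 0 : MvPowerSeries (Fin 2) Λ) ∣ G - G₁ := MvPowerSeries.X_dvd_iff.2 fun m hm => by
    rw [map_sub, hG₁, if_pos hm, sub_self]
  have h1 : (MvPowerSeries.X 1 : MvPowerSeries (Fin 2) Λ) ∣ G₁ := MvPowerSeries.X_dvd_iff.2 fun m hm => by
    rw [hG₁]
    split_ifs with h
    · obtain rfl : m = 0 := Finsupp.ext fun i => by fin_cases i <;> assumption
      rw [map_sub, MvPowerSeries.coeff_C, if_pos rfl, sub_self]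
    · rfl
  obtain ⟨a, ha⟩ := h0
  obtain ⟨b, hb⟩ := h1
  exact ⟨a, b, by linear_combination ha + hb⟩

theorem isUnit_of_subsingleton_aux {R : Type u} [CommRing R] (h : (0 : R) = 1) (x : R) : IsUnit x := by
  haveI : Subsingleton R := subsingleton_of_zero_eq_one h
  exact isUnit_of_subsingleton x

theorem mem_of_X_mul_mem {Λ : Type u} [CommRing Λ] [IsLocalRing Λ] [IsNoetherianRing Λ] {v : Λ}
    (hv : v ∈ maximalIdeal Λ) (A : MvPowerSeries (Fin 2) Λ)
    (h : ∀ i, MvPowerSeries.X i * A ∈ (maximalIdeal Λ).map (MvPowerSeries.C : Λ →+* MvPowerSeries (Fin 2) Λ) ⊔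
      Ideal.span {(MvPowerSeries.X 0 * MvPowerSeries.X 1 - MvPowerSeries.C v : MvPowerSeries (Fin 2) Λ)}) :
    A ∈ (maximalIdeal Λ).map (MvPowerSeries.C : Λ →+* MvPowerSeries (Fin 2) Λ) ⊔
      Ideal.span {(MvPowerSeries.X 0 * MvPowerSeries.X 1 - MvPowerSeries.C v : MvPowerSeries (Fin 2) Λ)} := by
  classical
  let π := MvPowerSeries.map (σ := Fin 2) (residue Λ)
  let mP := (maximalIdeal Λ).map (MvPowerSeries.C : Λ →+* MvPowerSeries (Fin 2) Λ)
  let f : MvPowerSeries (Fin 2) Λ := MvPowerSeries.X 0 * MvPowerSeries.X 1 - MvPowerSeries.C v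
  have hker : ∀ F, π F = 0 → F ∈ mP := by
    intro F hF
    obtain ⟨n, c, hc⟩ := Submodule.fg_iff_exists_fin_generating_family.1 (IsNoetherian.noetherian (maximalIdeal Λ))
    have hcoef : ∀ m, ∃ r : Fin n → Λ, ∑ i, r i • c i = MvPowerSeries.coeff m F := fun m => by
      rw [← Submodule.mem_span_range_iff_exists_fun, hc, ← residue_eq_zero_iff]
      have := congrArg (MvPowerSeries.coeff m) hF
      rw [MvPowerSeries.coeff_map, map_zero] at this
      exact this
    choose r hr using hcoef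
    have he : F = ∑ i, MvPowerSeries.C (c i) * (show MvPowerSeries (Fin 2) Λ from fun m => r m i) := by
      refine MvPowerSeries.ext fun m => ?_
      rw [map_sum, ← hr m]
      refine Finset.sum_congr rfl fun i _ => ?_
      rw [MvPowerSeries.coeff_C_mul, smul_eq_mul, mul_comm]
      rfl
    rw [he]
    exact Ideal.sum_mem _ fun i _ => Ideal.mul_mem_right _ _
      (Ideal.mem_map_of_mem _ (hc ▸ Submodule.subset_span ⟨i, rfl⟩))
  have hπf : π f = MvPowerSeries.X 0 * MvPowerSeries.X 1 := by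
    rw [map_sub, map_mul, MvPowerSeries.map_X, MvPowerSeries.map_X, MvPowerSeries.map_C,
      (residue_eq_zero_iff v).2 hv, map_zero, sub_zero]
  have hmP : ∀ F ∈ mP, π F = 0 := fun F hF => by
    refine (Ideal.map_le_iff_le_comap.2 ?_ : mP ≤ RingHom.ker π) hF
    intro a ha
    rw [Ideal.mem_comap, RingHom.mem_ker, MvPowerSeries.map_C, (residue_eq_zero_iff a).2 ha, map_zero]
  have hx : ∀ i, ∃ w, MvPowerSeries.X i * π A = MvPowerSeries.X 0 * MvPowerSeries.X 1 * w := fun i => by
    obtain ⟨a, ha, b, hb, hab⟩ := Submodule.mem_sup.1 (h i)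
    obtain ⟨w, rfl⟩ := Ideal.mem_span_singleton.1 hb
    refine ⟨π w, ?_⟩
    have := congrArg π hab
    rw [map_add, hmP a ha, zero_add, map_mul, hπf, map_mul, MvPowerSeries.map_X] at this
    exact this.symm
  obtain ⟨w, hw⟩ := hx 0
  obtain ⟨w', hw'⟩ := hx 1
  have hcancel : ∀ (i : Fin 2) (F G : MvPowerSeries (Fin 2) (ResidueField Λ)),
      MvPowerSeries.X i * F = MvPowerSeries.X i * G → F = G := fun i F G hFG => by
    refine MvPowerSeries.ext fun m => ?_
    have := congrArg (MvPowerSeries.coeff (Finsupp.single i 1 + m)) hFG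
    rwa [MvPowerSeries.X_def, MvPowerSeries.coeff_add_monomial_mul, MvPowerSeries.coeff_add_monomial_mul, one_mul,
      one_mul] at this
  have e0 : π A = MvPowerSeries.X 1 * w := hcancel 0 _ _ (by linear_combination hw)
  have e1 : π A = MvPowerSeries.X 0 * w' := hcancel 1 _ _ (by linear_combination hw')
  have hdvd : (MvPowerSeries.X 0 : MvPowerSeries (Fin 2) (ResidueField Λ)) ∣ w := MvPowerSeries.X_dvd_iff.2 fun m hm => by
    have h' := congrArg (MvPowerSeries.coeff (Finsupp.single (1 : Fin 2) 1 + m)) (e0.symm.trans e1)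
    rw [MvPowerSeries.X_def (1 : Fin 2), MvPowerSeries.coeff_add_monomial_mul, one_mul] at h'
    rw [h', MvPowerSeries.X_def (0 : Fin 2), MvPowerSeries.coeff_monomial_mul, if_neg]
    intro hle
    have := hle 0
    simp [hm] at this
  obtain ⟨w'', rfl⟩ := hdvd
  obtain ⟨W, rfl⟩ : ∃ W, π W = w'' :=
    ⟨fun m => Function.surjInv residue_surjective (MvPowerSeries.coeff m w''), MvPowerSeries.ext fun m => by
      rw [MvPowerSeries.coeff_map]
      exact Function.surjInv_eq residue_surjective _⟩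
  have hA : A - f * W ∈ mP := hker _ (by rw [map_sub, map_mul, hπf, e0]; ring)
  rw [← sub_add_cancel A (f * W)]
  exact add_mem (Ideal.mem_sup_left hA) (Ideal.mem_sup_right (Ideal.mul_mem_right _ _ (Ideal.mem_span_singleton_self f)))

/-- Completion data of a node. -/
structure IsNodePoint (Λ : Type u) [CommRing Λ] [IsLocalRing Λ] (O : Type u) [CommRing O] [IsLocalRing O]
    [Algebra Λ O] (v : Λ) : Prop where
  hv : v ∈ maximalIdeal Λ
  residue : ∀ a : O, ∃ c : Λ, a - algebraMap Λ O c ∈ maximalIdeal O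
  approx : ∀ n : ℕ, 2 ≤ n → ∃ a b : O, a ∈ maximalIdeal O ∧ b ∈ maximalIdeal O ∧
    a * b - algebraMap Λ O v ∈ maximalIdeal O ^ n ∧
    maximalIdeal O ≤ Ideal.span {a, b} ⊔ (maximalIdeal Λ).map (algebraMap Λ O) ⊔ maximalIdeal O ^ 2
  depth : ∀ a : O, (∀ r ∈ maximalIdeal O, r * a ∈ (maximalIdeal Λ).map (algebraMap Λ O)) →
    a ∈ (maximalIdeal Λ).map (algebraMap Λ O)

theorem isNodePoint {Λ : Type u} [CommRing Λ] [IsLocalRing Λ] [IsNoetherianRing Λ] {O : Type u} [CommRing O]
    [IsLocalRing O] [IsNoetherianRing O] [Algebra Λ O] [IsLocalHom (algebraMap Λ O)] {v : Λ}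
    (hv : v ∈ maximalIdeal Λ) (e : AdicCompletion (maximalIdeal O) O ≃+* Node Λ v)
    (he : ∀ c : Λ, e (algebraMap O _ (algebraMap Λ O c)) = Ideal.Quotient.mk _ (MvPowerSeries.C c)) :
    IsNodePoint Λ O v := by
  let m := maximalIdeal O
  let mk : MvPowerSeries (Fin 2) Λ →+* Node Λ v := Ideal.Quotient.mk _
  let φ : O →+* Node Λ v := e.toRingHom.comp (algebraMap O _)
  let ψ : ∀ n, Node Λ v →+* O ⧸ m ^ n := fun n => (AdicCompletion.evalₐ m n).toRingHom.comp e.symm.toRingHom
  have hψs : ∀ n, Function.Surjective (ψ n) := fun n =>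
    (AdicCompletion.surjective_evalₐ m n).comp e.symm.surjective
  have hψφ : ∀ n a, ψ n (φ a) = Ideal.Quotient.mk _ a := fun n a => by
    show AdicCompletion.evalₐ m n (e.symm (e (algebraMap O _ a))) = _
    rw [RingEquiv.symm_apply_apply]
    exact (AdicCompletion.evalₐ m n).commutes a
  have hφC : ∀ c, φ (algebraMap Λ O c) = mk (MvPowerSeries.C c) := he
  have hψC : ∀ n c, ψ n (mk (MvPowerSeries.C c)) = Ideal.Quotient.mk _ (algebraMap Λ O c) := fun n c => by
    rw [← hφC, hψφ]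
  have hXY : mk (MvPowerSeries.X 0) * mk (MvPowerSeries.X 1) = mk (MvPowerSeries.C v) := by
    rw [← map_mul]
    exact Ideal.Quotient.eq.2 (Ideal.mem_span_singleton_self _)
  have hrel : ∀ z : Node Λ v, ∃ c b₀ b₁, z = mk (MvPowerSeries.C c) + mk (MvPowerSeries.X 0) * b₀ + mk (MvPowerSeries.X 1) * b₁ := fun z => by
    obtain ⟨F, rfl⟩ := Ideal.Quotient.mk_surjective z
    obtain ⟨F₀, F₁, h⟩ := exists_split F
    exact ⟨_, mk F₀, mk F₁, (congrArg mk h).trans (by rw [map_add, map_add, map_mul, map_mul])⟩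
  have hnu : ∀ i, ¬ IsUnit (mk (MvPowerSeries.X i)) := by
    intro i hu
    let g : MvPowerSeries (Fin 2) Λ →+* ResidueField Λ := (residue Λ).comp (MvPowerSeries.constantCoeff)
    have hg : ∀ a ∈ Ideal.span {(MvPowerSeries.X 0 * MvPowerSeries.X 1 - MvPowerSeries.C v : MvPowerSeries (Fin 2) Λ)},
        g a = 0 := fun a ha => by
      obtain ⟨w, rfl⟩ := Ideal.mem_span_singleton.1 ha
      simp [g, (residue_eq_zero_iff v).2 hv]
    have h' := hu.map (Ideal.Quotient.lift _ g hg)
    rw [show Ideal.Quotient.lift _ g hg (mk (MvPowerSeries.X i)) = g (MvPowerSeries.X i) from rfl] at h'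
    simp [g] at h'
  have hlift : ∀ (n : ℕ), 1 ≤ n → ∀ i, ∃ a : O, a ∈ m ∧ Ideal.Quotient.mk (m ^ n) a = ψ n (mk (MvPowerSeries.X i)) := by
    intro n hn i
    obtain ⟨a, ha⟩ := Ideal.Quotient.mk_surjective (ψ n (mk (MvPowerSeries.X i)))
    refine ⟨a, ?_, ha⟩
    by_contra h
    haveI : Nontrivial (Node Λ v) := ⟨0, 1, fun h01 => hnu i (isUnit_of_subsingleton_aux h01 _)⟩
    haveI : IsLocalRing (Node Λ v) := IsLocalRing.of_surjective' mk Ideal.Quotient.mk_surjective
    have hu : IsUnit (ψ n (mk (MvPowerSeries.X i))) := ha ▸ (notMem_maximalIdeal.1 h).map _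
    obtain ⟨z, hz⟩ := hu.exists_right_inv
    obtain ⟨w, rfl⟩ := hψs n z
    have hker : RingHom.ker (ψ n) ≠ ⊤ := by
      intro hk
      have h1 : ψ n 1 = 0 := by rw [← RingHom.mem_ker, hk]; trivial
      rw [map_one, ← map_one (Ideal.Quotient.mk (m ^ n)), Ideal.Quotient.eq_zero_iff_mem] at h1
      exact (maximalIdeal.isMaximal O).ne_top ((Ideal.eq_top_iff_one _).2 (Ideal.pow_le_self (by omega) h1))
    have h2 : mk (MvPowerSeries.X i) * w - 1 ∈ maximalIdeal (Node Λ v) :=
      IsLocalRing.le_maximalIdeal hker (by rw [RingHom.mem_ker, map_sub, map_mul, map_one, hz, sub_self])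
    have h3 : (1 : Node Λ v) ∈ maximalIdeal (Node Λ v) := by
      have := sub_mem (Ideal.mul_mem_right w _ ((mem_maximalIdeal _).2 (hnu i))) h2
      rwa [sub_sub_cancel] at this
    exact (maximalIdeal.isMaximal (Node Λ v)).ne_top ((Ideal.eq_top_iff_one _).2 h3)
  refine ⟨hv, fun a => ?_, fun n hn => ?_, fun a ha => ?_⟩
  · obtain ⟨c, b₀, b₁, h⟩ := hrel (φ a)
    refine ⟨c, ?_⟩
    obtain ⟨x, hx, hx'⟩ := hlift 1 le_rfl 0
    obtain ⟨y, hy, hy'⟩ := hlift 1 le_rfl 1
    have h1 := congrArg (ψ 1) h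
    rw [hψφ, map_add, map_add, map_mul, map_mul, hψC, ← hx', ← hy'] at h1
    have hz : ∀ z ∈ m, Ideal.Quotient.mk (m ^ 1) z = 0 := fun z hz => Ideal.Quotient.eq_zero_iff_mem.2 (by rwa [pow_one])
    rw [hz x hx, hz y hy, zero_mul, zero_mul, add_zero, add_zero, Ideal.Quotient.eq, pow_one] at h1
    exact h1
  · obtain ⟨x, hx, hx'⟩ := hlift n (by omega) 0
    obtain ⟨y, hy, hy'⟩ := hlift n (by omega) 1
    refine ⟨x, y, hx, hy, ?_, fun a ha => ?_⟩
    · rw [← Ideal.Quotient.eq, map_mul, hx', hy', ← hψC, ← map_mul, hXY]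
    · obtain ⟨c, b₀, b₁, h⟩ := hrel (φ a)
      obtain ⟨r₀, hr₀⟩ := Ideal.Quotient.mk_surjective (ψ n b₀)
      obtain ⟨r₁, hr₁⟩ := Ideal.Quotient.mk_surjective (ψ n b₁)
      have h1 := congrArg (ψ n) h
      rw [hψφ, map_add, map_add, map_mul, map_mul, hψC, ← hx', ← hy', ← hr₀, ← hr₁, ← map_mul, ← map_mul, ← map_add,
        ← map_add, Ideal.Quotient.eq] at h1
      have h2 := Ideal.pow_le_pow_right hn h1
      have hc : algebraMap Λ O c ∈ m := by
        have : algebraMap Λ O c = a - (a - (algebraMap Λ O c + x * r₀ + y * r₁)) - x * r₀ - y * r₁ := by ring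
        rw [this]
        exact sub_mem (sub_mem (sub_mem ha (Ideal.pow_le_self (by omega) h2)) (Ideal.mul_mem_right _ _ hx))
          (Ideal.mul_mem_right _ _ hy)
      have hc' : c ∈ maximalIdeal Λ := fun hu => hc (hu.map _)
      rw [show a = (x * r₀ + y * r₁) + algebraMap Λ O c + (a - (algebraMap Λ O c + x * r₀ + y * r₁)) by ring]
      refine add_mem (add_mem (Ideal.mem_sup_left (Ideal.mem_sup_left (add_mem ?_ ?_))) ?_) (Ideal.mem_sup_right h2)
      · exact Ideal.mul_mem_right _ _ (Ideal.subset_span (by simp))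
      · exact Ideal.mul_mem_right _ _ (Ideal.subset_span (by simp))
      · exact Ideal.mem_sup_left (Ideal.mem_sup_right (Ideal.mem_map_of_mem _ hc'))
  · let mB : Ideal (Node Λ v) := ((maximalIdeal Λ).map (MvPowerSeries.C : Λ →+* MvPowerSeries (Fin 2) Λ)).map mk
    have hφm : ∀ z ∈ (maximalIdeal Λ).map (algebraMap Λ O), φ z ∈ mB := fun z hz => by
      refine (Ideal.map_le_iff_le_comap.2 fun c hc => ?_ : (maximalIdeal Λ).map (algebraMap Λ O) ≤ mB.comap φ) hz
      rw [Ideal.mem_comap, Ideal.mem_comap, hφC]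
      exact Ideal.mem_map_of_mem _ (Ideal.mem_map_of_mem _ hc)
    have hX : ∀ i, mk (MvPowerSeries.X i) * φ a ∈ mB := fun i => by
      have hk : AdicCompletion.evalₐ m 1 (e.symm (mk (MvPowerSeries.X i))) = 0 := by
        obtain ⟨x, hx, hx'⟩ := hlift 1 le_rfl i
        show ψ 1 (mk (MvPowerSeries.X i)) = 0
        rw [← hx', Ideal.Quotient.eq_zero_iff_mem, pow_one]
        exact hx
      have hmem : e.symm (mk (MvPowerSeries.X i)) ∈ m ^ 1 • (⊤ : Submodule O (AdicCompletion m O)) := by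
        rw [AdicCompletion.pow_smul_top_eq_ker_eval (IsNoetherian.noetherian m), LinearMap.mem_ker]
        rw [← AdicCompletion.factor_evalₐ_eq_eval m _ (by simp), hk, map_zero]
      have key : ∀ z ∈ m ^ 1 • (⊤ : Submodule O (AdicCompletion m O)), e z * φ a ∈ mB := by
        intro z hz
        induction hz using Submodule.smul_induction_on' with
        | smul r hr z _ =>
          rw [Algebra.smul_def, map_mul, mul_right_comm]
          refine Ideal.mul_mem_right _ _ ?_
          show φ r * φ a ∈ mB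
          rw [← map_mul]
          exact hφm _ (ha r (by rwa [pow_one] at hr))
        | add z _ z' _ h h' => rw [map_add, add_mul]; exact add_mem h h'
      simpa using key _ hmem
    obtain ⟨A, hA⟩ := Ideal.Quotient.mk_surjective (φ a)
    have hmemB : φ a ∈ mB := by
      rw [← hA]
      have hsup : ∀ F : MvPowerSeries (Fin 2) Λ, mk F ∈ mB ↔ F ∈ (maximalIdeal Λ).map (MvPowerSeries.C : Λ →+* MvPowerSeries (Fin 2) Λ) ⊔
          Ideal.span {(MvPowerSeries.X 0 * MvPowerSeries.X 1 - MvPowerSeries.C v : MvPowerSeries (Fin 2) Λ)} := fun F => by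
        rw [← Ideal.mem_comap, Ideal.comap_map_of_surjective' _ Ideal.Quotient.mk_surjective, Ideal.mk_ker]
      refine (hsup A).2 (mem_of_X_mul_mem hv A fun i => (hsup _).1 ?_)
      rw [map_mul, show mk A = φ a from hA]
      exact hX i
    have hn : ∀ n, a ∈ (maximalIdeal Λ).map (algebraMap Λ O) ⊔ m ^ n := fun n => by
      have h1 : ψ n (φ a) ∈ ((maximalIdeal Λ).map (algebraMap Λ O)).map (Ideal.Quotient.mk (m ^ n)) := by
        rw [← Ideal.mem_comap]
        refine (?_ : mB ≤ (((maximalIdeal Λ).map (algebraMap Λ O)).map (Ideal.Quotient.mk (m ^ n))).comap (ψ n)) hmemB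
        rw [Ideal.map_le_iff_le_comap, Ideal.map_le_iff_le_comap]
        intro c hc
        rw [Ideal.mem_comap, Ideal.mem_comap, Ideal.mem_comap, hψC]
        exact Ideal.mem_map_of_mem _ (Ideal.mem_map_of_mem _ hc)
      rw [hψφ, ← Ideal.mem_comap, Ideal.comap_map_of_surjective' _ Ideal.Quotient.mk_surjective, Ideal.mk_ker] at h1
      exact h1
    let I := (maximalIdeal Λ).map (algebraMap Λ O)
    have hI : I ≠ ⊤ := fun h => by
      have hle : I ≤ m := Ideal.map_le_iff_le_comap.2 fun c hc => by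
        show algebraMap Λ O c ∈ maximalIdeal O
        exact fun hu => hc ((isUnit_map_iff (algebraMap Λ O) c).1 hu)
      exact (maximalIdeal.isMaximal O).ne_top (top_le_iff.1 (h ▸ hle))
    haveI : Nontrivial (O ⧸ I) := Ideal.Quotient.nontrivial_iff.2 hI
    haveI : IsLocalRing (O ⧸ I) := IsLocalRing.of_surjective' (Ideal.Quotient.mk I) Ideal.Quotient.mk_surjective
    rw [← Ideal.Quotient.eq_zero_iff_mem]
    have h0 : Ideal.Quotient.mk I a ∈ ⨅ n, (m.map (Ideal.Quotient.mk I)) ^ n := Submodule.mem_iInf _ |>.2 fun n => by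
      rw [← Ideal.map_pow]
      obtain ⟨p, hp, q, hq, hpq⟩ := Submodule.mem_sup.1 (hn n)
      rw [← hpq, map_add, Ideal.Quotient.eq_zero_iff_mem.2 hp, zero_add]
      exact Ideal.mem_map_of_mem _ hq
    rw [Ideal.iInf_pow_eq_bot_of_isLocalRing] at h0
    · exact h0
    · intro h
      have h' := congrArg (Ideal.comap (Ideal.Quotient.mk I)) h
      rw [Ideal.comap_map_of_surjective' _ Ideal.Quotient.mk_surjective, Ideal.mk_ker, Ideal.comap_top,
        sup_eq_left.2 (IsLocalRing.le_maximalIdeal hI)] at h'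
      exact (maximalIdeal.isMaximal O).ne_top h'

end Groth.Agent.NodeSm24
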