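import Groth.Agent.NodeSm24.Point
import Groth.Agent.GenSmoothLib.OmegaRank
import Groth.Agent.OmegaLib.LocFree
import Groth.Agent.SmoothLib.AtPoint
import Groth.Agent.S2063
import Mathlib.RingTheory.Smooth.StandardSmoothOfFree
import Mathlib.Algebra.TrivSqZeroExt.Basic

/-!
# Smoothness of relative dimension one off the closed fibre
-/

set_option autoImplicit false
set_option linter.style.haveILetI false
set_option linter.unusedSectionVars false
set_option backward.isDefEq.respectTransparency.types false
set_option maxHeartbeats 2000000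

universe u

open IsLocalRing TensorProduct

namespace Groth.Agent.NodeSm24

section Extend

variable {S O L : Type u} [CommRing S] [CommRing O] [Algebra S O] (M : Submonoid S) [IsLocalization M O] [Field L]
  {V : Type u} [AddCommGroup V] [Module L V]

/-- A derivation with values in a vector space extends to a localization. -/
theorem exists_extension (χ₀ : S →+* L) (hM : ∀ m ∈ M, χ₀ m ≠ 0) (D₀ : S → V)
    (hadd : ∀ a b, D₀ (a + b) = D₀ a + D₀ b) (hmul : ∀ a b, D₀ (a * b) = χ₀ a • D₀ b + χ₀ b • D₀ a) :
    ∃ (χ : O →+* L) (D : O → V), (∀ s, χ (algebraMap S O s) = χ₀ s) ∧ (∀ s, D (algebraMap S O s) = D₀ s) ∧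
      (∀ a b, D (a + b) = D a + D b) ∧ (∀ a b, D (a * b) = χ a • D b + χ b • D a) := by
  letI : Module Lᵐᵒᵖ V := Module.compHom V ((RingHom.id L).fromOpposite mul_comm)
  haveI : IsCentralScalar L V := ⟨fun _ _ => rfl⟩
  have h1 : D₀ 1 = 0 := by
    have := hmul 1 1
    simp only [mul_one, map_one, one_smul] at this
    exact left_eq_add.1 this
  have h0 : D₀ 0 = 0 := by simpa using hadd 0 0
  let F : S →+* TrivSqZeroExt L V :=
    { toFun := fun s => TrivSqZeroExt.inl (χ₀ s) + TrivSqZeroExt.inr (D₀ s)
      map_one' := by ext <;> simp [h1]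
      map_mul' := fun a b => by
        ext
        · simp
        · simp [hmul]
      map_zero' := by ext <;> simp [h0]
      map_add' := fun a b => by
        ext
        · simp
        · simp [hadd] }
  have hu : ∀ m : M, IsUnit (F m) := fun m => by
    rw [TrivSqZeroExt.isUnit_iff_isUnit_fst]
    simpa [F] using hM m m.2
  let G : O →+* TrivSqZeroExt L V := IsLocalization.lift hu
  refine ⟨(TrivSqZeroExt.fstHom L L V).toRingHom.comp G, fun a => (G a).snd, fun s => ?_, fun s => ?_,
    fun a b => by simp, fun a b => ?_⟩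
  · show (G (algebraMap S O s)).fst = _
    rw [IsLocalization.lift_eq hu]
    simp [F]
  · show (G (algebraMap S O s)).snd = _
    rw [IsLocalization.lift_eq hu]
    simp [F]
  · show (G (a * b)).snd = (G a).fst • (G b).snd + (G b).fst • (G a).snd
    rw [map_mul, TrivSqZeroExt.snd_mul]
    rfl

/-- An unramified algebra has no derivation into a vector space. -/
theorem eq_zero_of_unramified {Λ : Type u} [CommRing Λ] {A L : Type u} [CommRing A] [Algebra Λ A]
    [Algebra.FormallyUnramified Λ A] [Field L] {V : Type u} [AddCommGroup V] [Module L V] (χ : A →+* L) (D : A → V)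
    (hadd : ∀ a b, D (a + b) = D a + D b) (hmul : ∀ a b, D (a * b) = χ a • D b + χ b • D a)
    (hconst : ∀ c, D (algebraMap Λ A c) = 0) (x : A) : D x = 0 := by
  letI : Module Lᵐᵒᵖ V := Module.compHom V ((RingHom.id L).fromOpposite mul_comm)
  haveI : IsCentralScalar L V := ⟨fun _ _ => rfl⟩
  letI : Algebra Λ (TrivSqZeroExt L V) := ((algebraMap L (TrivSqZeroExt L V)).comp (χ.comp (algebraMap Λ A))).toAlgebra
  have hD1 : D 1 = 0 := by simpa using hconst 1
  have hD0 : D 0 = 0 := by simpa using hconst 0
  let F : A →ₐ[Λ] (TrivSqZeroExt L V) :=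
    { toFun := fun a => TrivSqZeroExt.inl (χ a) + TrivSqZeroExt.inr (D a)
      map_one' := by ext <;> simp [hD1]
      map_mul' := fun a b => by
        ext
        · simp
        · simp [hmul]
      map_zero' := by ext <;> simp [hD0]
      map_add' := fun a b => by
        ext
        · simp
        · simp [hadd]
      commutes' := fun c => by
        show TrivSqZeroExt.inl (χ (algebraMap Λ A c)) + TrivSqZeroExt.inr (D (algebraMap Λ A c)) =
          TrivSqZeroExt.inl (χ (algebraMap Λ A c))
        rw [hconst, TrivSqZeroExt.inr_zero, add_zero] }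
  let G : A →ₐ[Λ] (TrivSqZeroExt L V) :=
    { toFun := fun a => TrivSqZeroExt.inl (χ a)
      map_one' := by rw [map_one]; rfl
      map_mul' := fun a b => by rw [map_mul, TrivSqZeroExt.inl_mul]
      map_zero' := by rw [map_zero]; exact TrivSqZeroExt.inl_zero V
      map_add' := fun a b => by rw [map_add, TrivSqZeroExt.inl_add]
      commutes' := fun c => rfl }
  let I : Ideal (TrivSqZeroExt L V) := RingHom.ker (TrivSqZeroExt.fstHom L L V).toRingHom
  have hI : I ^ 2 = ⊥ := by
    rw [pow_two, eq_bot_iff, Ideal.mul_le]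
    intro a ha b hb
    have ha' : a.fst = 0 := ha
    have hb' : b.fst = 0 := hb
    rw [Ideal.mem_bot]
    ext <;> simp [ha', hb']
  have hFG : F = G := Algebra.FormallyUnramified.comp_injective I hI (AlgHom.ext fun a => by
    refine Ideal.Quotient.eq.2 ?_
    show (F a - G a).fst = 0
    simp [F, G])
  simpa [F, G] using congrArg (fun H : A →ₐ[Λ] (TrivSqZeroExt L V) => (H x).snd) hFG

end Extend

variable {Λ : Type u} [CommRing Λ] [IsLocalRing Λ] [IsNoetherianRing Λ]

theorem bound {S : Type u} [CommRing S] [Algebra Λ S] [Algebra.FiniteType Λ S] (P : Ideal S) [P.IsPrime]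
    {O : Type u} [CommRing O] [IsLocalRing O] [IsNoetherianRing O] [Algebra Λ O] [Algebra S O] [IsScalarTower Λ S O]
    [IsLocalHom (algebraMap Λ O)] [IsLocalization.AtPrime O P] {v : Λ} (h : IsNodePoint Λ O v) {L : Type u} [Field L]
    (χ₀ : S →+* L) (hP : ∀ s, χ₀ s = 0 → s ∈ P) (hv : χ₀ (algebraMap Λ S v) ≠ 0)
    {V : Type u} [AddCommGroup V] [Module L V] (D₀ : S → V)
    (hadd : ∀ a b, D₀ (a + b) = D₀ a + D₀ b) (hmul : ∀ a b, D₀ (a * b) = χ₀ a • D₀ b + χ₀ b • D₀ a)
    (hconst : ∀ c, D₀ (algebraMap Λ S c) = 0) (hspan : Submodule.span L (Set.range D₀) = ⊤) :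
    Module.finrank L V ≤ 1 := by
  classical
  obtain ⟨χ, D, hχ, hD, hDadd, hDmul⟩ := exists_extension (O := O) P.primeCompl χ₀
    (fun m hm h0 => hm (hP m h0)) D₀ hadd hmul
  have hc : ∀ c, D (algebraMap Λ O c) = 0 := fun c => by
    rw [IsScalarTower.algebraMap_apply Λ S O, hD, hconst]
  refine finrank_le_one h χ (by rw [IsScalarTower.algebraMap_apply Λ S O, hχ]; exact hv) D hDadd hDmul hc ?_ ?_
  · letI := Module.compHom V χ
    obtain ⟨G, hG⟩ := Algebra.FiniteType.out (R := Λ) (A := S)
    let N : Submodule O V := Submodule.span O ((fun s => D (algebraMap S O s)) '' (G : Set S))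
    have hS : ∀ s, D (algebraMap S O s) ∈ N := fun s => by
      have hs : s ∈ Algebra.adjoin Λ (G : Set S) := hG ▸ Algebra.mem_top
      induction hs using Algebra.adjoin_induction with
      | mem x hx => exact Submodule.subset_span ⟨x, hx, rfl⟩
      | algebraMap c => rw [← IsScalarTower.algebraMap_apply Λ S O, hc]; exact zero_mem _
      | add a b _ _ ha hb => rw [map_add, hDadd]; exact add_mem ha hb
      | mul a b _ _ ha hb =>
        rw [map_mul, hDmul]
        exact add_mem (N.smul_mem (algebraMap S O a) hb) (N.smul_mem (algebraMap S O b) ha)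
    have he : Submodule.span O (Set.range D) = N := by
      refine le_antisymm (Submodule.span_le.2 ?_) (Submodule.span_mono (by rintro _ ⟨s, -, rfl⟩; exact ⟨_, rfl⟩))
      rintro _ ⟨a, rfl⟩
      obtain ⟨⟨s, t⟩, hst⟩ := IsLocalization.surj P.primeCompl a
      obtain ⟨i, hi⟩ := (IsLocalization.map_units O t).exists_left_inv
      have h' : (algebraMap S O t.1 • D a : V) = D (algebraMap S O s) - a • D (algebraMap S O t.1) := by
        show χ (algebraMap S O t.1) • D a = _ - χ a • D (algebraMap S O t.1)
        rw [← hst, hDmul]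
        abel
      have := N.smul_mem i (h' ▸ N.sub_mem (hS s) (N.smul_mem a (hS t.1)))
      rw [smul_smul, hi, one_smul] at this
      exact this
    rw [he]
    exact Submodule.fg_span ((G.finite_toSet).image _)
  · exact eq_top_iff.2 (hspan ▸ Submodule.span_mono (by rintro _ ⟨s, rfl⟩; exact ⟨_, hD s⟩))

theorem exists_standardSmooth_one (hdim : ringKrullDim Λ ≤ 1) {S : Type u} [CommRing S] [Algebra Λ S]
    [Algebra.FiniteType Λ S] [Module.Flat Λ S] (q P : Ideal S) [q.IsPrime] [P.IsPrime] (hqP : q ≤ P)
    {O : Type u} [CommRing O] [IsLocalRing O] [IsNoetherianRing O] [Algebra Λ O] [Algebra S O] [IsScalarTower Λ S O]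
    [IsLocalHom (algebraMap Λ O)] [IsLocalization.AtPrime O P] {v : Λ} (h : IsNodePoint Λ O v)
    (hv : algebraMap Λ S v ∉ q)
    (hmax : ∀ Q : Ideal S, Q.IsPrime → q ≤ Q → maximalIdeal Λ ≤ Q.comap (algebraMap Λ S) → Q.IsMaximal) :
    ∃ g : S, g ∉ q ∧ Algebra.IsStandardSmoothOfRelativeDimension 1 Λ (Localization.Away g) := by
  haveI : Algebra.FinitePresentation Λ S := Algebra.FinitePresentation.of_finiteType.1 ‹_›
  haveI : IsNoetherianRing S := Algebra.FiniteType.isNoetherianRing Λ S
  haveI : Module.Flat Λ O := haveI := IsLocalization.flat O P.primeCompl; Module.Flat.trans Λ S O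
  let η : PrimeSpectrum Λ := ⟨q.comap (algebraMap Λ S), inferInstance⟩
  have hηm : η.asIdeal ≠ maximalIdeal Λ := fun he => hv (he.ge h.hv)
  have hηmin : ∀ a : PrimeSpectrum Λ, a ≤ η → a = η := fun a ha => by
    by_contra hne
    let m : PrimeSpectrum Λ := ⟨maximalIdeal Λ, inferInstance⟩
    have h1 : η < m := lt_of_le_of_ne (IsLocalRing.le_maximalIdeal η.isPrime.ne_top)
      fun e => hηm (congrArg PrimeSpectrum.asIdeal e)
    let l₁ : LTSeries (PrimeSpectrum Λ) := RelSeries.snoc (RelSeries.singleton _ a) η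
      (show (RelSeries.singleton _ a : LTSeries (PrimeSpectrum Λ)).last < η from lt_of_le_of_ne ha hne)
    let l : LTSeries (PrimeSpectrum Λ) := RelSeries.snoc l₁ m (show l₁.last < m by simpa [l₁] using h1)
    have h2 := (Order.LTSeries.length_le_krullDim l).trans hdim
    have h3 : l.length = 2 := rfl
    rw [h3] at h2
    norm_cast at h2
  -- a point of the fibre below `q`
  obtain ⟨q', hq', hlt⟩ : ∃ q' : Ideal S, q'.IsPrime ∧ q' < q := by
    by_contra hcon
    push Not at hcon
    have hqmin : q ∈ minimalPrimes S := ⟨⟨‹_›, bot_le⟩, fun r hr hrq => by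
      by_contra hne
      exact hcon r hr.1 (lt_of_le_not_ge hrq hne)⟩
    have hdisj : Disjoint (P.primeCompl : Set S) q := Set.disjoint_left.2 fun x hx hxq => hx (hqP hxq)
    let qO := q.map (algebraMap S O)
    haveI : qO.IsPrime := IsLocalization.isPrime_of_isPrime_disjoint P.primeCompl O q ‹_› hdisj
    have hc : qO.comap (algebraMap S O) = q := IsLocalization.under_map_of_isPrime_disjoint P.primeCompl O ‹_› hdisj
    have hqO : qO ∈ minimalPrimes O := ⟨⟨inferInstance, bot_le⟩, fun r hr hrq => by
      haveI := hr.1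
      refine Ideal.map_le_iff_le_comap.2 ?_
      exact hqmin.2 ⟨inferInstance, bot_le⟩ ((Ideal.comap_mono hrq).trans hc.le)⟩
    obtain ⟨Q, hQ, hQle, hQne⟩ := exists_prime_ne_maximal h qO hqO
    have hQc : (Q.comap (algebraMap S O)).IsMaximal := hmax _ inferInstance
      (hc.ge.trans (Ideal.comap_mono (le_sup_left.trans hQle))) (by
        rw [Ideal.comap_comap, ← IsScalarTower.algebraMap_eq]
        exact Ideal.map_le_iff_le_comap.1 (le_sup_right.trans hQle))
    have hQP : Q.comap (algebraMap S O) ≤ P := fun x hx => by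
      by_contra hxP
      exact hQ.ne_top (Ideal.eq_top_of_isUnit_mem _ hx (IsLocalization.map_units O (⟨x, hxP⟩ : P.primeCompl)))
    have hQeq := hQc.eq_of_le ‹P.IsPrime›.ne_top hQP
    refine hQne ?_
    rw [← IsLocalization.map_under P.primeCompl O Q]
    show (Q.comap (algebraMap S O)).map (algebraMap S O) = _
    rw [hQeq, IsLocalization.AtPrime.map_eq_maximalIdeal P O]
  have hq'η : q'.comap (algebraMap Λ S) = η.asIdeal := congrArg PrimeSpectrum.asIdeal
    (hηmin ⟨_, hq'.comap _⟩ (Ideal.comap_mono hlt.le))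
  let e := PrimeSpectrum.preimageOrderIsoFiber Λ S η
  let Q := e ⟨⟨q, ‹_›⟩, rfl⟩
  let w := e ⟨⟨q', hq'⟩, PrimeSpectrum.ext hq'η⟩
  have hwQ : w < Q := e.lt_iff_lt.2 hlt
  let K := η.asIdeal.ResidueField
  let C := η.asIdeal.Fiber S
  haveI : Algebra.FiniteType K C := Algebra.FiniteType.baseChange _
  let inc : S →+* C := (Algebra.TensorProduct.includeRight : S →ₐ[Λ] C).toRingHom
  have hQq : Q.asIdeal.comap inc = q :=
    congrArg (fun z => (z : PrimeSpectrum S).asIdeal) (congrArg Subtype.val (e.symm_apply_apply ⟨⟨q, ‹_›⟩, rfl⟩))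
  let κ := Q.asIdeal.ResidueField
  let χ₀ : S →+* κ := (algebraMap C κ).comp inc
  let V := κ ⊗[C] Ω[C⁄K]
  let D₀ : S → V := fun s => 1 ⊗ₜ KaehlerDifferential.D K C (inc s)
  have hker : ∀ s, χ₀ s = 0 ↔ s ∈ q := fun s => by
    rw [← hQq, Ideal.mem_comap]
    exact Ideal.algebraMap_residueField_eq_zero
  have hadd : ∀ a b, D₀ (a + b) = D₀ a + D₀ b := fun a b => by
    simp only [D₀, map_add, TensorProduct.tmul_add]
  have hmul : ∀ a b, D₀ (a * b) = χ₀ a • D₀ b + χ₀ b • D₀ a := fun a b => by
    simp only [D₀, χ₀, map_mul, Derivation.leibniz, TensorProduct.tmul_add, TensorProduct.tmul_smul, RingHom.coe_comp,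
      Function.comp_apply, algebraMap_smul]
  have hconst : ∀ c, D₀ (algebraMap Λ S c) = 0 := fun c => by
    show (1 : κ) ⊗ₜ KaehlerDifferential.D K C (inc (algebraMap Λ S c)) = 0
    rw [show inc (algebraMap Λ S c) = algebraMap K C (algebraMap Λ K c) from
      ((Algebra.TensorProduct.includeRight : S →ₐ[Λ] C).commutes c).trans (IsScalarTower.algebraMap_apply Λ K C c),
      Derivation.map_algebraMap, TensorProduct.tmul_zero]
  have hspan : Submodule.span κ (Set.range D₀) = ⊤ := by
    refine Submodule.eq_top_iff'.2 fun z => ?_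
    induction z using TensorProduct.induction_on with
    | zero => exact zero_mem _
    | add a b ha hb => exact add_mem ha hb
    | tmul a x =>
      rw [← mul_one a, ← smul_eq_mul, ← TensorProduct.smul_tmul']
      refine Submodule.smul_mem _ a ?_
      have hx : x ∈ Submodule.span C (Set.range (KaehlerDifferential.D K C)) := by
        rw [KaehlerDifferential.span_range_derivation]; trivial
      induction hx using Submodule.span_induction with
      | mem x hx =>
        obtain ⟨c, rfl⟩ := hx
        induction c using TensorProduct.induction_on with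
        | zero => rw [map_zero, TensorProduct.tmul_zero]; exact zero_mem _
        | add a b ha hb => rw [map_add, TensorProduct.tmul_add]; exact add_mem ha hb
        | tmul r s =>
          rw [show r ⊗ₜ[Λ] s = r • (inc s) from by
            show _ = r • ((1 : K) ⊗ₜ[Λ] s)
            rw [TensorProduct.smul_tmul', smul_eq_mul, mul_one], Derivation.map_smul,
            ← algebraMap_smul C r (KaehlerDifferential.D K C (inc s)), TensorProduct.tmul_smul,
            ← algebraMap_smul κ (algebraMap K C r)]
          exact Submodule.smul_mem _ _ (Submodule.subset_span ⟨s, rfl⟩)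
      | zero => rw [TensorProduct.tmul_zero]; exact zero_mem _
      | add a b _ _ ha hb => rw [TensorProduct.tmul_add]; exact add_mem ha hb
      | smul c x _ hx =>
        rw [TensorProduct.tmul_smul, ← algebraMap_smul κ c]
        exact Submodule.smul_mem _ _ hx
  have hvχ : χ₀ (algebraMap Λ S v) ≠ 0 := fun h0 => hv ((hker _).1 h0)
  have hle1 : Module.finrank κ V ≤ 1 :=
    bound P h χ₀ (fun s hs => hqP ((hker s).1 hs)) hvχ D₀ hadd hmul hconst hspan
  have hdimw : (1 : WithBot ℕ∞) ≤ ringKrullDim (C ⧸ w.asIdeal) := by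
    let π := Ideal.Quotient.mk w.asIdeal
    haveI : (Q.asIdeal.map π).IsPrime := Ideal.map_isPrime_of_surjective Ideal.Quotient.mk_surjective (by
      rw [Ideal.mk_ker]; exact hwQ.le)
    let b : PrimeSpectrum (C ⧸ w.asIdeal) := ⟨⊥, Ideal.isPrime_bot⟩
    have hlt' : b < ⟨Q.asIdeal.map π, inferInstance⟩ := by
      refine lt_of_le_of_ne (bot_le : (⊥ : Ideal _) ≤ _) fun he => hwQ.not_ge ?_
      have h' : Q.asIdeal.map π = ⊥ := (congrArg PrimeSpectrum.asIdeal he).symm
      rw [Ideal.map_eq_bot_iff_le_ker, Ideal.mk_ker] at h'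
      exact h'
    let l : LTSeries (PrimeSpectrum (C ⧸ w.asIdeal)) := RelSeries.snoc (RelSeries.singleton _ b) ⟨Q.asIdeal.map π, inferInstance⟩ hlt'
    exact_mod_cast Order.LTSeries.length_le_krullDim l
  have hge1 : 1 ≤ Module.finrank κ V := by
    exact_mod_cast hdimw.trans (GenSmoothLib.ringKrullDim_quotient_le_finrank K C Q.asIdeal w.asIdeal hwQ.le)
  haveI : Algebra.IsSmoothAt K Q.asIdeal := (S2063.result Q.asIdeal).2 <| by
    have h1 : Module.finrank κ V = 1 := le_antisymm hle1 hge1
    rw [show Module.finrank Q.asIdeal.ResidueField (Q.asIdeal.ResidueField ⊗[C] Ω[C⁄K]) = 1 from h1]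
    exact_mod_cast hdimw.trans (GenSmoothLib.ringKrullDim_quotient_le_localDim K C Q.asIdeal w.asIdeal hwQ.le)
  haveI : Module.Flat Λ (Localization.AtPrime q) :=
    haveI := IsLocalization.flat (Localization.AtPrime q) q.primeCompl; Module.Flat.trans Λ S (Localization.AtPrime q)
  haveI : Algebra.IsSmoothAt Λ q := SmoothLib.isSmoothAt_of_fibre η.asIdeal q Q.asIdeal hQq
  obtain ⟨g, hg, hstd⟩ := Algebra.IsSmoothAt.exists_notMem_isStandardSmooth Λ q
  let Sg := Localization.Away g
  obtain ⟨ι, σ, _, _, ⟨pres⟩⟩ := hstd.out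
  haveI hn : Algebra.IsStandardSmoothOfRelativeDimension pres.dimension Λ Sg :=
    pres.isStandardSmoothOfRelativeDimension rfl
  obtain ⟨bas⟩ := OmegaLib.exists_basis_kaehler Λ Sg pres.dimension
  have hgu : ∀ m ∈ Submonoid.powers g, χ₀ m ≠ 0 := by
    rintro _ ⟨k, rfl⟩ h0
    exact hg (Ideal.IsPrime.mem_of_pow_mem ‹_› k ((hker _).1 h0))
  obtain ⟨χg, Dg, hχg, hDg, hDgadd, hDgmul⟩ := exists_extension (O := Sg) (Submonoid.powers g) χ₀ hgu D₀ hadd hmul
  -- the rank is at most one
  letI : Algebra Sg κ := χg.toAlgebra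
  let V₂ := κ ⊗[Sg] Ω[Sg⁄Λ]
  have hn1 : pres.dimension ≤ 1 := by
    have hr : Module.finrank κ V₂ = pres.dimension := by
      rw [Module.finrank_eq_card_basis (bas.baseChange κ), Fintype.card_fin]
    rw [← hr]
    refine bound P h χ₀ (fun s hs => hqP ((hker s).1 hs)) hvχ
      (fun s => (1 : κ) ⊗ₜ[Sg] KaehlerDifferential.D Λ Sg (algebraMap S Sg s)) (fun a b => ?_) (fun a b => ?_)
      (fun c => ?_) ?_
    · simp only [map_add, TensorProduct.tmul_add]
    · simp only [map_mul, Derivation.leibniz, TensorProduct.tmul_add, TensorProduct.tmul_smul]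
      rw [← algebraMap_smul κ, ← algebraMap_smul κ (algebraMap S Sg b)]
      show χg (algebraMap S Sg a) • _ + χg (algebraMap S Sg b) • _ = _
      rw [hχg, hχg]
    · rw [← IsScalarTower.algebraMap_apply, Derivation.map_algebraMap, TensorProduct.tmul_zero]
    · refine Submodule.eq_top_iff'.2 fun z => ?_
      induction z using TensorProduct.induction_on with
      | zero => exact zero_mem _
      | add a b ha hb => exact add_mem ha hb
      | tmul a x =>
        rw [← mul_one a, ← smul_eq_mul, ← TensorProduct.smul_tmul']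
        refine Submodule.smul_mem _ a ?_
        have hx : x ∈ Submodule.span Sg (Set.range fun s => KaehlerDifferential.map Λ Λ S Sg (KaehlerDifferential.D Λ S s)) := by
          show x ∈ Submodule.span Sg (Set.range (KaehlerDifferential.map Λ Λ S Sg ∘ KaehlerDifferential.D Λ S))
          rw [KaehlerDifferential.span_range_map_derivation_of_isLocalization Λ S Sg (Submonoid.powers g)]; trivial
        induction hx using Submodule.span_induction with
        | mem x hx =>
          obtain ⟨s, rfl⟩ := hx
          exact Submodule.subset_span ⟨s, by simp⟩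
        | zero => rw [TensorProduct.tmul_zero]; exact zero_mem _
        | add a b _ _ ha hb => rw [TensorProduct.tmul_add]; exact add_mem ha hb
        | smul c x _ hx =>
          rw [TensorProduct.tmul_smul, ← algebraMap_smul κ c]
          exact Submodule.smul_mem _ _ hx
  -- and at least one
  have hn0 : pres.dimension ≠ 0 := by
    intro h0
    haveI : Algebra.IsStandardSmoothOfRelativeDimension 0 Λ Sg := h0 ▸ hn
    haveI : Algebra.Etale Λ Sg := Algebra.Etale.iff_isStandardSmoothOfRelativeDimension_zero.2 inferInstance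
    have hD0 : ∀ s, D₀ s = 0 := fun s => by
      rw [← hDg]
      refine eq_zero_of_unramified (Λ := Λ) χg Dg hDgadd hDgmul (fun c => ?_) _
      rw [IsScalarTower.algebraMap_apply Λ S Sg, hDg, hconst]
    have : Module.finrank κ V = 0 := by
      rw [← finrank_top, ← hspan, show Set.range D₀ = {0} from Set.eq_singleton_iff_unique_mem.2
        ⟨⟨0, hD0 0⟩, by rintro _ ⟨s, rfl⟩; exact hD0 s⟩, Submodule.span_zero_singleton, finrank_bot]
    omega
  refine ⟨g, hg, ?_⟩
  rw [show (1 : ℕ) = pres.dimension by omega]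
  exact hn

end Groth.Agent.NodeSm24
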