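import Groth.Agent.NodeSm24.Algebra
import Mathlib.RingTheory.Regular.IsSMulRegular
import Mathlib.RingTheory.Ideal.AssociatedPrime.Basic
import Mathlib.LinearAlgebra.FiniteDimensional.Lemmas

/-!
# Points near a node that do not lie over the closed point
-/

set_option autoImplicit false
set_option linter.style.haveILetI false
set_option linter.unusedSectionVars false
set_option maxHeartbeats 800000

universe u

open IsLocalRing

namespace Groth.Agent.NodeSm24

variable {Λ : Type u} [CommRing Λ] [IsLocalRing Λ] [IsNoetherianRing Λ] {O : Type u} [CommRing O]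
  [IsLocalRing O] [IsNoetherianRing O] [Algebra Λ O] [IsLocalHom (algebraMap Λ O)] {v : Λ}

/-- A minimal prime is not cut to the closed point by the closed fibre. -/
theorem exists_prime_ne_maximal (h : IsNodePoint Λ O v) [Module.Flat Λ O] (q : Ideal O)
    (hq : q ∈ minimalPrimes O) :
    ∃ Q : Ideal O, Q.IsPrime ∧ q ⊔ (maximalIdeal Λ).map (algebraMap Λ O) ≤ Q ∧ Q ≠ maximalIdeal O := by
  classical
  by_contra hcon
  push Not at hcon
  let M := EGA4.FibMod Λ O O
  let I := (maximalIdeal Λ).map (algebraMap Λ O)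
  have hmem : ∀ r : O, (Submodule.Quotient.mk r : M) = 0 ↔ r ∈ I := fun r => by
    rw [Submodule.Quotient.mk_eq_zero, smul_eq_mul, Ideal.mul_top]
  have hm : ¬ ((maximalIdeal O : Set O) ⊆ ⋃ p ∈ associatedPrimes O M, (p : Set O)) := by
    intro hsub
    obtain ⟨p, hp, hle⟩ := (Ideal.subset_union_prime_finite (associatedPrimes.finite O M) ⊥ ⊥
      (fun p hp _ _ => hp.isPrime)).1 hsub
    have hpm : p = maximalIdeal O := ((maximalIdeal.isMaximal O).eq_of_le hp.isPrime.ne_top hle).symm
    obtain ⟨-, z, hz⟩ := Submodule.isAssociatedPrime_iff.1 hp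
    obtain ⟨a, rfl⟩ := Submodule.Quotient.mk_surjective _ z
    have hz' : ∀ r : O, r ∈ p ↔ r * a ∈ I := fun r => by
      rw [hz, Submodule.mem_colon_singleton, Submodule.mem_bot]
      exact hmem (r * a)
    have ha := h.depth a fun r hr => (hz' r).1 (hpm ▸ hr)
    exact hp.isPrime.ne_top ((Ideal.eq_top_iff_one _).2 ((hz' 1).2 (by rwa [one_mul])))
  obtain ⟨h₀, hh₀, hreg⟩ := Set.not_subset.1 hm
  rw [biUnion_associatedPrimes_eq_compl_regular] at hreg
  simp only [Set.mem_compl_iff, Set.mem_setOf_eq, not_not] at hreg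
  have hrad : h₀ ∈ (q ⊔ I).radical := by
    rw [Ideal.radical_eq_sInf, Submodule.mem_sInf]
    rintro Q ⟨hQ, hQp⟩
    rw [hcon Q hQp hQ]
    exact hh₀
  obtain ⟨N, hN⟩ := hrad
  obtain ⟨g, hg, t, ht, hgt⟩ := Submodule.mem_sup.1 hN
  have hg' : IsSMulRegular M g := fun x y hxy => by
    refine (hreg.pow N) ?_
    obtain ⟨a, rfl⟩ := Submodule.Quotient.mk_surjective _ x
    obtain ⟨b, rfl⟩ := Submodule.Quotient.mk_surjective _ y
    have h0 : ∀ c : O, (t • Submodule.Quotient.mk c : M) = 0 := fun c =>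
      (hmem (t * c)).2 (Ideal.mul_mem_right c _ ht)
    show h₀ ^ N • _ = h₀ ^ N • _
    rw [← hgt, add_smul, add_smul, h0, h0]
    exact congrArg (· + 0) hxy
  have hnzd := (CAlg15.regular_and_flat_of_fibre (A := Λ) (B := O) (M := O) hg').1
  exact Set.disjoint_left.1 (Ideal.disjoint_nonZeroDivisors_of_mem_minimalPrimes hq) hg
    (mem_nonZeroDivisors_iff_right.2 fun x hx => hnzd (show g • x = g • (0 : O) by
      rw [smul_zero, smul_eq_mul, mul_comm]; exact hx))

/-- Derivations near a node have rank at most one at a point not over the closed point. -/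
theorem finrank_le_one (h : IsNodePoint Λ O v) {L : Type u} [Field L] (χ : O →+* L)
    (hv : χ (algebraMap Λ O v) ≠ 0) {V : Type u} [AddCommGroup V] [Module L V] (D : O → V)
    (hadd : ∀ a b, D (a + b) = D a + D b) (hmul : ∀ a b, D (a * b) = χ a • D b + χ b • D a)
    (hconst : ∀ c, D (algebraMap Λ O c) = 0)
    (hfg : letI := Module.compHom V χ; (Submodule.span O (Set.range D)).FG)
    (hspan : Submodule.span L (Set.range D) = ⊤) : Module.finrank L V ≤ 1 := by
  classical
  letI := Module.compHom V χ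
  let m := maximalIdeal O
  let mΛ := (maximalIdeal Λ).map (algebraMap Λ O)
  let N : Submodule O V := Submodule.span O (Set.range D)
  have hD : ∀ a, D a ∈ N := fun a => Submodule.subset_span ⟨a, rfl⟩
  have h0 : D 0 = 0 := by simpa using hadd 0 0
  have hneg : ∀ a, D (-a) = -D a := fun a =>
    eq_neg_of_add_eq_zero_left (by rw [← hadd, neg_add_cancel, h0])
  have hmap : ∀ z ∈ mΛ, D z ∈ m • N := by
    intro z hz
    induction hz using Submodule.span_induction with
    | mem z hz => obtain ⟨c, -, rfl⟩ := hz; rw [hconst]; exact zero_mem _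
    | zero => rw [h0]; exact zero_mem _
    | add a b _ _ ha hb => rw [hadd]; exact add_mem ha hb
    | smul r z hz hDz =>
      rw [smul_eq_mul, hmul]
      refine add_mem (Submodule.smul_mem _ r hDz) ?_
      have hzm : z ∈ m := (IsLocalRing.map_maximalIdeal_le (algebraMap Λ O)) hz
      exact Submodule.smul_mem_smul hzm (hD r)
  have hpow : ∀ k, ∀ z ∈ m ^ (k + 1), D z ∈ m ^ k • N := by
    intro k
    induction k with
    | zero => intro z _; rw [pow_zero, Ideal.one_eq_top, Submodule.top_smul]; exact hD z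
    | succ k ih =>
      intro z hz
      rw [pow_succ] at hz
      refine Submodule.mul_induction_on hz (fun a ha b hb => ?_) fun a b ha hb => by rw [hadd]; exact add_mem ha hb
      rw [hmul]
      refine add_mem (Submodule.smul_mem_smul ha (hD b)) ?_
      have h' : (b : O) • D a ∈ m • (m ^ k • N) := Submodule.smul_mem_smul hb (ih a ha)
      rw [← Submodule.mul_smul, ← pow_succ'] at h'
      exact h'
  have hgen : ∀ a b : O, a ∈ m → b ∈ m → m ≤ Ideal.span {a, b} ⊔ mΛ ⊔ m ^ 2 →
      N ≤ Submodule.span O {D a, D b} := by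
    intro a b ha hb hm
    refine Submodule.le_of_le_smul_of_le_jacobson_bot hfg (maximalIdeal_le_jacobson ⊥) ?_
    refine Submodule.span_le.2 ?_
    rintro _ ⟨z, rfl⟩
    obtain ⟨c, hc⟩ := h.residue z
    rw [show z = algebraMap Λ O c + (z - algebraMap Λ O c) by ring, hadd, hconst, zero_add]
    obtain ⟨y, hy, t, ht, hyt⟩ := Submodule.mem_sup.1 (hm hc)
    obtain ⟨p, hp, s, hs, hps⟩ := Submodule.mem_sup.1 hy
    obtain ⟨r₀, r₁, hr⟩ := Ideal.mem_span_pair.1 hp
    rw [← hyt, ← hps, ← hr]
    simp only [SetLike.mem_coe, hadd, hmul]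
    have e₀ : ∀ r : O, (r • D a : V) = χ r • D a := fun r => rfl
    refine add_mem (add_mem (add_mem (add_mem ?_ ?_) (add_mem ?_ ?_)) ?_) ?_
    · exact Submodule.mem_sup_left (Submodule.smul_mem _ r₀ (Submodule.subset_span (by simp)))
    · exact Submodule.mem_sup_right (Submodule.smul_mem_smul ha (hD r₀))
    · exact Submodule.mem_sup_left (Submodule.smul_mem _ r₁ (Submodule.subset_span (by simp)))
    · exact Submodule.mem_sup_right (Submodule.smul_mem_smul hb (hD r₁))
    · exact Submodule.mem_sup_right (hmap s hs)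
    · have h' := hpow 1 t ht
      rw [pow_one] at h'
      exact Submodule.mem_sup_right h'
  by_contra hcon
  have hindep : ∀ a b : O, N ≤ Submodule.span O {D a, D b} → LinearIndependent L ![D a, D b] := by
    intro a b hab
    have htop : ⊤ ≤ Submodule.span L (Set.range ![D a, D b]) := by
      rw [← hspan, Submodule.span_le, Matrix.range_cons_cons_empty]
      rintro _ ⟨z, rfl⟩
      obtain ⟨r, s, hrs⟩ := Submodule.mem_span_pair.1 (hab (hD z))
      rw [← hrs]
      exact Submodule.mem_span_pair.2 ⟨χ r, χ s, rfl⟩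
    refine linearIndependent_of_top_le_span_of_card_eq_finrank htop ?_
    have := finrank_range_le_card (R := L) ![D a, D b]
    rw [Set.finrank, top_le_iff.1 htop, finrank_top, Fintype.card_fin] at this
    rw [Fintype.card_fin]
    omega
  let K := RingHom.ker χ
  have hmem : ∀ n, 2 ≤ n → algebraMap Λ O v ∈ K ⊔ m ^ (n - 1) := by
    intro n hn
    obtain ⟨a, b, ha, hb, hab, hm⟩ := h.approx n hn
    have hN := hgen a b ha hb hm
    have hkey : ∀ z ∈ m ^ (n - 1) • N, ∃ p q, p ∈ m ^ (n - 1) ∧ q ∈ m ^ (n - 1) ∧ z = χ p • D a + χ q • D b := by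
      intro z hz
      induction hz using Submodule.smul_induction_on' with
      | smul r hr y hy =>
        obtain ⟨p, q, hpq⟩ := Submodule.mem_span_pair.1 (hN hy)
        refine ⟨r * p, r * q, Ideal.mul_mem_right _ _ hr, Ideal.mul_mem_right _ _ hr, ?_⟩
        rw [← hpq]
        show χ r • (χ p • D a + χ q • D b) = _
        rw [smul_add, smul_smul, smul_smul, map_mul, map_mul]
      | add y _ y' _ h1 h2 =>
        obtain ⟨p, q, hp, hq, rfl⟩ := h1
        obtain ⟨p', q', hp', hq', rfl⟩ := h2
        exact ⟨p + p', q + q', add_mem hp hp', add_mem hq hq', by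
          rw [map_add, map_add, add_smul, add_smul]; abel⟩
    obtain ⟨p, q, hp, hq, hpq⟩ := hkey _ (hpow (n - 1) _ (by rwa [Nat.sub_add_cancel (by omega : 1 ≤ n)]))
    rw [sub_eq_add_neg, hadd, hneg, hconst, neg_zero, add_zero, hmul] at hpq
    obtain ⟨e1, e2⟩ := LinearIndependent.eq_of_pair (hindep a b hN) (show χ b • D a + χ a • D b = χ p • D a + χ q • D b by
      rw [add_comm]; exact hpq)
    rw [show algebraMap Λ O v = (a * b - p * q - (a * b - algebraMap Λ O v) + p * q - 0) - 0 by ring, sub_zero, sub_zero,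
      show a * b - p * q - (a * b - algebraMap Λ O v) + p * q = (a * b - q * p) + (q * p - (a * b - algebraMap Λ O v)) by ring]
    refine add_mem (Ideal.mem_sup_left ?_) (Ideal.mem_sup_right (sub_mem (Ideal.mul_mem_right _ _ hq)
      (Ideal.pow_le_pow_right (Nat.sub_le n 1) hab)))
    rw [RingHom.mem_ker, map_sub, map_mul, map_mul, e1, e2, sub_self]
  haveI : Nontrivial (O ⧸ K) := Ideal.Quotient.nontrivial_iff.2 (RingHom.ker_ne_top χ)
  haveI : IsLocalRing (O ⧸ K) := IsLocalRing.of_surjective' (Ideal.Quotient.mk K) Ideal.Quotient.mk_surjective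
  have hz : Ideal.Quotient.mk K (algebraMap Λ O v) ∈ ⨅ n, (m.map (Ideal.Quotient.mk K)) ^ n :=
    (Submodule.mem_iInf _).2 fun k => by
      rw [← Ideal.map_pow]
      obtain ⟨y, hy, t, ht, hyt⟩ := Submodule.mem_sup.1 (hmem (k + 2) (by omega))
      rw [← hyt, map_add, Ideal.Quotient.eq_zero_iff_mem.2 hy, zero_add]
      exact Ideal.mem_map_of_mem _ (Ideal.pow_le_pow_right (by omega) ht)
  rw [Ideal.iInf_pow_eq_bot_of_isLocalRing] at hz
  · exact hv (RingHom.mem_ker.1 (Ideal.Quotient.eq_zero_iff_mem.1 hz))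
  · intro h'
    have h'' := congrArg (Ideal.comap (Ideal.Quotient.mk K)) h'
    rw [Ideal.comap_map_of_surjective' _ Ideal.Quotient.mk_surjective, Ideal.mk_ker, Ideal.comap_top,
      sup_eq_left.2 (IsLocalRing.le_maximalIdeal (RingHom.ker_ne_top χ))] at h''
    exact (maximalIdeal.isMaximal O).ne_top h''

end Groth.Agent.NodeSm24
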