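import Groth.Agent.NodeSm24.Main
import Groth.Prelude.Def_Coh
import Mathlib.AlgebraicGeometry.Morphisms.Smooth
import Mathlib.AlgebraicGeometry.Morphisms.Proper
import Mathlib.AlgebraicGeometry.Morphisms.Flat
import Mathlib.AlgebraicGeometry.Noetherian

/-!
# Families with nodal completions are smooth off the closed fibre
-/

set_option autoImplicit false
set_option linter.style.haveILetI false
set_option backward.isDefEq.respectTransparency.types false
set_option maxHeartbeats 1000000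

universe u

open CategoryTheory AlgebraicGeometry IsLocalRing

namespace Groth.Agent.NodeSm24

variable {Λ : Type u} [CommRing Λ] {X : Scheme.{u}} (f : X ⟶ Spec (CommRingCat.of Λ))

theorem mem_asIdeal_iff (x : X) (c : Λ) :
    c ∈ (f x).asIdeal ↔ ¬ IsUnit (X.presheaf.germ ⊤ x trivial (Coh.toGlobal f c)) := by
  show _ ↔ ¬ IsUnit (X.presheaf.germ ⊤ x trivial (f.appTop ((Scheme.ΓSpecIso (CommRingCat.of Λ)).inv c)))
  rw [← Scheme.mem_basicOpen_top, show f.appTop = f.app ⊤ from rfl]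
  erw [← Scheme.preimage_basicOpen]
  show _ ↔ ¬ (f x ∈ (Spec (CommRingCat.of Λ)).basicOpen ((Scheme.ΓSpecIso (CommRingCat.of Λ)).inv c))
  rw [basicOpen_eq_of_affine]
  exact not_not.symm

theorem main [IsLocalRing Λ] [IsNoetherianRing Λ] (hdim : ringKrullDim Λ = 1) (v : Λ)
    (hv : (Ideal.span {v}).radical = maximalIdeal Λ) [IsLocallyNoetherian X] [IsProper f] [Flat f]
    (P : Finset X) (hP : ∀ p ∈ P, f.base p = closedPoint Λ)
    (hsm : ∀ q : X, f.base q = closedPoint Λ → q ∉ P →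
      ∃ U : X.Opens, q ∈ U ∧ SmoothOfRelativeDimension 1 (U.ι ≫ f))
    (hnode : ∀ p ∈ P, ∃ e : AdicCompletion (maximalIdeal (X.presheaf.stalk p)) (X.presheaf.stalk p) ≃+* Node Λ v,
      ∀ c : Λ, e (algebraMap (X.presheaf.stalk p) _ (((X.presheaf.germ ⊤ p trivial).hom.comp (Coh.toGlobal f)) c)) =
        Ideal.Quotient.mk _ (MvPowerSeries.C c))
    (q : X) (hq : f.base q ≠ closedPoint Λ) :
    ∃ U : X.Opens, q ∈ U ∧ SmoothOfRelativeDimension 1 (U.ι ≫ f) := by
  classical
  have hvm : v ∈ maximalIdeal Λ := hv ▸ Ideal.le_radical (Ideal.mem_span_singleton_self v)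
  by_cases hcase : ∃ q₀ : X, q ⤳ q₀ ∧ f.base q₀ = closedPoint Λ ∧ q₀ ∉ P
  · obtain ⟨q₀, hs, h0, hP0⟩ := hcase
    obtain ⟨U, hU, hUs⟩ := hsm q₀ h0 hP0
    exact ⟨U, hs.mem_open U.2 hU, hUs⟩
  push Not at hcase
  obtain ⟨p, hqp, hpc⟩ : ∃ p, q ⤳ p ∧ f.base p = closedPoint Λ := by
    have hcl : IsClosed (f.base '' closure {q}) := f.isClosedMap _ isClosed_closure
    obtain ⟨p, hp, hpc⟩ := (specializes_closedPoint (f.base q) : f.base q ⤳ closedPoint Λ).mem_closed hcl
      ⟨q, subset_closure rfl, rfl⟩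
    exact ⟨p, specializes_iff_mem_closure.2 hp, hpc⟩
  have hpP : p ∈ P := hcase p hqp hpc
  obtain ⟨V, hV, hpV, -⟩ := exists_isAffineOpen_mem_and_subset (x := p) (U := (⊤ : X.Opens)) trivial
  have hqV : q ∈ V := hqp.mem_open V.2 hpV
  let a : Λ →+* Γ(X, V) := (X.presheaf.map (homOfLE (le_top : V ≤ ⊤)).op).hom.comp (Coh.toGlobal f)
  letI : Algebra Λ Γ(X, V) := a.toAlgebra
  have ha : a = (f.appLE ⊤ V le_top).hom.comp (Scheme.ΓSpecIso (CommRingCat.of Λ)).inv.hom := rfl
  haveI : Algebra.FiniteType Λ Γ(X, V) := by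
    have h := HasRingHomProperty.appLE (P := @LocallyOfFiniteType) f inferInstance ⟨⊤, isAffineOpen_top _⟩ ⟨V, hV⟩ le_top
    show a.FiniteType
    rw [ha]
    exact h.comp (RingHom.FiniteType.of_surjective _
      (Scheme.ΓSpecIso (CommRingCat.of Λ)).commRingCatIsoToRingEquiv.symm.surjective)
  haveI : Module.Flat Λ Γ(X, V) := by
    have h := HasRingHomProperty.appLE (P := @Flat) f inferInstance ⟨⊤, isAffineOpen_top _⟩ ⟨V, hV⟩ le_top
    show a.Flat
    rw [ha]
    exact (RingHom.Flat.of_bijective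
      (Scheme.ΓSpecIso (CommRingCat.of Λ)).commRingCatIsoToRingEquiv.symm.bijective).comp h
  have hmem : ∀ (x : V) (s : Γ(X, V)), s ∈ (hV.primeIdealOf x).asIdeal ↔ ¬ IsUnit (X.presheaf.germ V x.1 x.2 s) := by
    intro x s
    letI := TopCat.Presheaf.algebra_section_stalk X.presheaf x
    haveI := hV.isLocalization_stalk x
    exact not_iff_not.1 ((IsLocalization.AtPrime.isUnit_to_map_iff (X.presheaf.stalk x.1)
      (hV.primeIdealOf x).asIdeal s).symm.trans not_not.symm)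
  have hgerm : ∀ (x : V) (c : Λ), X.presheaf.germ V x.1 x.2 (a c) = X.presheaf.germ ⊤ x.1 trivial (Coh.toGlobal f c) :=
    fun x c => TopCat.Presheaf.germ_res_apply X.presheaf (homOfLE le_top) x.1 x.2 (Coh.toGlobal f c)
  have hcomap : ∀ (x : V), ((hV.primeIdealOf x).asIdeal.comap a) = (f x.1).asIdeal := fun x => by
    ext c
    rw [Ideal.mem_comap, hmem, hgerm, mem_asIdeal_iff]
  -- the data at a point of `P`
  have hpt : ∀ x : V, x.1 ∈ P →
      letI : Algebra Λ (X.presheaf.stalk x.1) :=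
        ((X.presheaf.germ ⊤ x.1 trivial).hom.comp (Coh.toGlobal f)).toAlgebra
      IsLocalHom (algebraMap Λ (X.presheaf.stalk x.1)) ∧ IsNodePoint Λ (X.presheaf.stalk x.1) v := by
    intro x hx
    letI : Algebra Λ (X.presheaf.stalk x.1) := ((X.presheaf.germ ⊤ x.1 trivial).hom.comp (Coh.toGlobal f)).toAlgebra
    haveI hloc : IsLocalHom (algebraMap Λ (X.presheaf.stalk x.1)) := ⟨fun c hc => by
      by_contra hcu
      have h1 : c ∈ (f x.1).asIdeal := by
        rw [show f x.1 = closedPoint Λ from hP x.1 hx]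
        exact hcu
      exact (mem_asIdeal_iff f x.1 c).1 h1 hc⟩
    obtain ⟨e, he⟩ := hnode x.1 hx
    exact ⟨hloc, isNodePoint hvm e he⟩
  let 𝔭 : V := ⟨p, hpV⟩
  let O := X.presheaf.stalk p
  letI : Algebra Λ O := ((X.presheaf.germ ⊤ p trivial).hom.comp (Coh.toGlobal f)).toAlgebra
  obtain ⟨hloc, hnp⟩ := hpt 𝔭 hpP
  haveI := hloc
  letI : Algebra Γ(X, V) O := TopCat.Presheaf.algebra_section_stalk X.presheaf 𝔭
  haveI : IsLocalization.AtPrime O (hV.primeIdealOf 𝔭).asIdeal := hV.isLocalization_stalk 𝔭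
  haveI : IsScalarTower Λ Γ(X, V) O := IsScalarTower.of_algebraMap_eq fun c => (hgerm 𝔭 c).symm
  have hqp' : (hV.primeIdealOf ⟨q, hqV⟩).asIdeal ≤ (hV.primeIdealOf 𝔭).asIdeal := by
    intro s hs
    rw [hmem] at hs ⊢
    intro hu
    refine hs ?_
    rw [← TopCat.Presheaf.germ_stalkSpecializes X.presheaf hpV hqp]
    exact hu.map (X.presheaf.stalkSpecializes hqp).hom
  obtain ⟨g, hg, hstd⟩ := exists_standardSmooth_one hdim.le (hV.primeIdealOf ⟨q, hqV⟩).asIdeal
    (hV.primeIdealOf 𝔭).asIdeal hqp' hnp (fun hvq => hq (PrimeSpectrum.ext (le_antisymm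
      (IsLocalRing.le_maximalIdeal (f q).isPrime.ne_top) (hv.ge.trans ((Ideal.IsPrime.radical_le_iff (f q).isPrime).2
        ((Ideal.span_singleton_le_iff_mem _).2 ((hcomap ⟨q, hqV⟩).le hvq)))))))
    fun Q hQ hqQ hmQ => by
      let xQ : X := hV.fromSpec ⟨Q, hQ⟩
      have hxV : xQ ∈ V := hV.range_fromSpec.le ⟨_, rfl⟩
      have hQe : hV.primeIdealOf ⟨xQ, hxV⟩ = ⟨Q, hQ⟩ :=
        hV.fromSpec.isOpenEmbedding.injective (hV.fromSpec_primeIdealOf ⟨xQ, hxV⟩)
      have hspec : q ⤳ xQ := by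
        have h := ((PrimeSpectrum.le_iff_specializes (hV.primeIdealOf ⟨q, hqV⟩) ⟨Q, hQ⟩).1 hqQ).map hV.fromSpec.continuous
        rwa [hV.fromSpec_primeIdealOf ⟨q, hqV⟩] at h
      have hxc : f xQ = closedPoint Λ := PrimeSpectrum.ext (le_antisymm
        (IsLocalRing.le_maximalIdeal (f xQ).isPrime.ne_top)
        ((hmQ.trans (congrArg (Ideal.comap a) (congrArg PrimeSpectrum.asIdeal hQe)).ge).trans (hcomap ⟨xQ, hxV⟩).le))
      letI : Algebra Λ (X.presheaf.stalk xQ) := ((X.presheaf.germ ⊤ xQ trivial).hom.comp (Coh.toGlobal f)).toAlgebra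
      obtain ⟨hl, hn⟩ := hpt ⟨xQ, hxV⟩ (hcase xQ hspec hxc)
      refine ⟨⟨hQ.ne_top, fun J hJ => ?_⟩⟩
      obtain ⟨s, hsJ, hsQ⟩ := SetLike.exists_of_lt hJ
      have hgs : IsUnit (X.presheaf.germ V xQ hxV s) := by
        by_contra h
        exact hsQ ((congrArg PrimeSpectrum.asIdeal hQe).le ((hmem ⟨xQ, hxV⟩ s).2 h))
      obtain ⟨c, hc⟩ := hn.residue (X.presheaf.germ V xQ hxV s)
      have hd : s - a c ∈ Q := by
        refine (congrArg PrimeSpectrum.asIdeal hQe).le ((hmem ⟨xQ, hxV⟩ (s - a c)).2 ?_)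
        rw [map_sub, hgerm ⟨xQ, hxV⟩ c]
        exact hc
      have hcu : IsUnit c := by
        by_contra h
        have h1 : a c ∈ Q := hmQ h
        have := add_mem hd h1
        rw [sub_add_cancel] at this
        exact hsQ this
      have h2 : a c ∈ J := by
        have := sub_mem hsJ (hJ.le hd)
        rwa [sub_sub_cancel] at this
      exact Ideal.eq_top_of_isUnit_mem _ h2 (hcu.map a)
  refine ⟨X.basicOpen g, ?_, ?_⟩
  · rw [Scheme.mem_basicOpen _ g q hqV]
    by_contra h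
    exact hg ((hmem ⟨q, hqV⟩ g).2 h)
  · haveI := hV.isLocalization_basicOpen g
    have hle : X.basicOpen g ≤ V := X.basicOpen_le g
    have hB : IsAffineOpen (X.basicOpen g) := hV.basicOpen g
    have e1 : RingHom.IsStandardSmoothOfRelativeDimension 1
        ((algebraMap Γ(X, V) Γ(X, X.basicOpen g)).comp (algebraMap Λ Γ(X, V))) := by
      have h0 := (RingHom.isStandardSmoothOfRelativeDimension_algebraMap 1).2 hstd
      let e := IsLocalization.algEquiv (Submonoid.powers g) (Localization.Away g) Γ(X, X.basicOpen g)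
      have h1 := (RingHom.isStandardSmoothOfRelativeDimension_respectsIso (n := 1)).1 _ e.toRingEquiv h0
      convert h1 using 1
      refine RingHom.ext fun c => ?_
      show algebraMap Γ(X, V) Γ(X, X.basicOpen g) (algebraMap Λ Γ(X, V) c) =
        e (algebraMap Λ (Localization.Away g) c)
      rw [IsScalarTower.algebraMap_apply Λ Γ(X, V) (Localization.Away g), e.commutes]
    refine ⟨fun x => ?_⟩
    refine ⟨⊤, isAffineOpen_top _, (X.basicOpen g).ι ⁻¹ᵁ X.basicOpen g,
      hB.preimage_of_isOpenImmersion _ (by rw [Scheme.Opens.opensRange_ι]), x.2, le_top, ?_⟩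
    haveI := (X.basicOpen g).ι.isIso_app (X.basicOpen g) (by rw [Scheme.Opens.opensRange_ι])
    rw [← Scheme.Hom.appLE_comp_appLE (X.basicOpen g).ι f ⊤ (X.basicOpen g) _ le_top le_rfl, Scheme.Hom.appLE_eq_app]
    refine ((RingHom.isStandardSmoothOfRelativeDimension_respectsIso (n := 1)).cancel_right_isIso _ _).2 ?_
    have e2 := (RingHom.isStandardSmoothOfRelativeDimension_respectsIso (n := 1)).2 _
      (Scheme.ΓSpecIso (CommRingCat.of Λ)).commRingCatIsoToRingEquiv e1
    convert e2 using 1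
    refine RingHom.ext fun z => ?_
    show f.appLE ⊤ (X.basicOpen g) le_top z =
      X.presheaf.map (homOfLE hle).op (X.presheaf.map (homOfLE (le_top : V ≤ ⊤)).op
        (f.appTop ((Scheme.ΓSpecIso (CommRingCat.of Λ)).inv ((Scheme.ΓSpecIso (CommRingCat.of Λ)).hom z))))
    rw [show (Scheme.ΓSpecIso (CommRingCat.of Λ)).inv ((Scheme.ΓSpecIso (CommRingCat.of Λ)).hom z) = z from
      ConcreteCategory.congr_hom (Scheme.ΓSpecIso (CommRingCat.of Λ)).hom_inv_id z]
    exact (ConcreteCategory.congr_hom (Scheme.Hom.appLE_map f le_top (homOfLE hle).op) z).symm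

end Groth.Agent.NodeSm24
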